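import Cfsg.Agent.OddHalf.Quat.EvenTools
import Cfsg.Agent.OddHalf.Table.OutJ2

/-!
# Node Q: `NoThree` for `J₂`
-/

set_option autoImplicit false

namespace Cfsg.Agent.OddHalf.Quat.NoThreeSpor

open Equiv Table Table.OutJ2 Cfsg.Agent.SporadicA.PermTab Cfsg.Agent.SporadicA.J2Data Cfsg.Agent.SporadicA.J2Hundred

theorem hundred : NoThree G := by
  apply NoThree.of_mul_inv
  intro a b ha hb
  refine CycNorm.mul_inv_inner_of (X := G) (p := 7) (m := 3) (N := 3) (by norm_num) (x := ⟨x, x_mem⟩)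
    (f := ⟨f, f_mem⟩) (y := ⟨y, y_mem⟩) ?_ ?_ ?_ ?_ (by decide) (by decide) ?_ ?_ ?_ ?_ ?_ closure_eq ha hb
  · rw [Subgroup.orderOf_mk]; exact order_x
  · rw [card_G]; norm_num
  · rintro ⟨c, hc⟩ h
    obtain ⟨i, hi⟩ := cent_x hc (congrArg Subtype.val h)
    exact ⟨i, Subtype.ext hi⟩
  · exact Subtype.ext fx
  · rw [Subgroup.orderOf_mk]; exact order_f
  · exact Subtype.ext y2
  · exact Subtype.ext yf
  · intro i h
    exact y_ne_pow i (congrArg Subtype.val h)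
  · rintro ⟨c, hc⟩ h
    obtain ⟨i, hi | hi⟩ := cent_f hc (congrArg Subtype.val h)
    · exact ⟨i, Or.inl (Subtype.ext hi)⟩
    · exact ⟨i, Or.inr (Subtype.ext hi)⟩

theorem j2 {K : Type*} [Group K] (h : Spor.IsoJ2 K) : NoThree K := by
  obtain ⟨e⟩ := h
  obtain ⟨f⟩ := Cfsg.Agent.J2.HundredGens.J2_iso Cfsg.Agent.S1619.result.2.2.2
  exact NoThree.congr (e.trans f) hundred

end Cfsg.Agent.OddHalf.Quat.NoThreeSpor
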