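import Cfsg.Agent.OddHalf.Quat.NoThreeTools
import Cfsg.Agent.OddHalf.Table.OutMTwelve

/-!
# Node Q: `NoThree` for `M₁₂`
-/

set_option autoImplicit false

namespace Cfsg.Agent.OddHalf.Quat.NoThreeSpor

open Cfsg.Agent.OddHalf.Table.OutMTwelve

/-- a group with an automorphism `a` of order at most 2 and `Aut = Inn ∪ a Inn` -/
theorem of_mem_or_mem {K : Type*} [Group K] {a : MulAut K} (ha : a * a = 1)
    (h : ∀ φ : MulAut K, φ ∈ (MulAut.conj : K →* MulAut K).range ∨ a * φ ∈ (MulAut.conj : K →* MulAut K).range) :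
    NoThree K := by
  apply NoThree.of_pow (n := 2) (by norm_num)
  intro α
  rcases h α with h1 | ⟨x, hx⟩
  · exact pow_mem h1 2
  · have h2 : α = a * MulAut.conj x := by rw [hx, ← mul_assoc, ha, one_mul]
    refine ⟨a x * x, ?_⟩
    rw [h2, pow_two]
    ext u
    have h3 : ∀ v : K, a (a v) = v := fun v => by
      rw [← MulAut.mul_apply, ha, MulAut.one_apply]
    simp only [MulAut.mul_apply, MulAut.conj_apply, map_mul, map_inv, h3, mul_inv_rev, mul_assoc]

theorem m12 {K : Type*} [Group K] (h : Spor.IsoM12 K) : NoThree K := by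
  obtain ⟨e⟩ := h
  exact NoThree.congr e (of_mem_or_mem al_mul_al mem_or_mem)

end Cfsg.Agent.OddHalf.Quat.NoThreeSpor
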