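import Cfsg.Agent.OddHalf.Quat.NoThreeTools
import Cfsg.Agent.J4Type.Aut22

/-!
# Node Q: `NoThree` for `M₂₂`
-/

set_option autoImplicit false

namespace Cfsg.Agent.OddHalf.Quat.NoThreeSpor

open Cfsg
open Cfsg.Agent.J4Type.Aut22 (D22 mem_D22_iff M22_le_D22 exists_conj eq_one_of_centralizes)
open Cfsg.Agent.SporadicA.MathieuRecog (mem_M22_iff simple_M22)

theorem sq_mem_M22 {d : Equiv.Perm GolayPt} (hd : d ∈ D22) : d * d ∈ Spor.M22 := by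
  obtain ⟨hM, h⟩ := (mem_D22_iff d).1 hd
  refine (mem_M22_iff _).2 ⟨M24.mul_mem hM hM, ?_⟩
  rcases h with h | h
  · exact ⟨by rw [Equiv.Perm.mul_apply, h.1, h.1], by rw [Equiv.Perm.mul_apply, h.2, h.2]⟩
  · exact ⟨by rw [Equiv.Perm.mul_apply, h.1, h.2], by rw [Equiv.Perm.mul_apply, h.2, h.1]⟩

theorem m22 {K : Type*} [Group K] (h : Spor.IsoM22 K) : NoThree K := by
  obtain ⟨e⟩ := h
  refine NoThree.congr e (NoThree.of_pow (n := 2) (by norm_num) fun φ => ?_)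
  obtain ⟨d, hd, hφ⟩ := exists_conj φ
  refine ⟨⟨d * d, sq_mem_M22 hd⟩, ?_⟩
  ext1 x
  apply Subtype.ext
  show d * d * (x : Equiv.Perm GolayPt) * (d * d)⁻¹ = (((φ ^ 2) x : ↥Spor.M22) : Equiv.Perm GolayPt)
  rw [pow_two, MulAut.mul_apply, hφ, hφ]
  group

end Cfsg.Agent.OddHalf.Quat.NoThreeSpor
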