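import Cfsg.Agent.OddHalf.Quat.NoThreeTools
import Cfsg.Agent.KFacts.SuzOut

/-!
# Node Q: `NoThree` for the Suzuki sporadic group
-/

set_option autoImplicit false

namespace Cfsg.Agent.OddHalf.Quat.NoThreeSpor

theorem suz {K : Type*} [Group K] (h : Spor.IsoSuz K) : NoThree K := by
  obtain ⟨e⟩ := h
  exact NoThree.congr e (NoThree.of_le_two Cfsg.Agent.KFacts.SuzOut.index_eq)

end Cfsg.Agent.OddHalf.Quat.NoThreeSpor
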