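import Cfsg.Agent.OddHalf.Quat.NoThreeTools
import Cfsg.Agent.KFacts.Baby.Row
import Cfsg.Agent.KFacts.Baby.RowB
import Cfsg.Agent.KFacts.CoTwo.InnerB

/-!
# Node Q: `NoThree` for the Baby Monster
-/

set_option autoImplicit false

namespace Cfsg.Agent.OddHalf.Quat.NoThreeSpor

open Cfsg.Agent.BabyM Cfsg.Agent.BabyM.Model Cfsg.Agent.BabyU.ClosModel Cfsg.Agent.BabyU.ClosLane

theorem b {K : Type*} [Group K] (h : Spor.IsoB K) : NoThree K := by
  have := A.finite_G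
  obtain ⟨e⟩ := h
  obtain ⟨f⟩ := Cfsg.Agent.KFacts.Baby.RowB.exists_iso ⟨MulEquiv.refl Cfsg.Spor.BabyMonster⟩
  exact NoThree.congr (e.trans f.symm) (NoThree.of_inner'
    (Cfsg.Agent.KFacts.Baby.Sheet.data Cfsg.Agent.KFacts.CoTwo.InnerB.inner Cfsg.Agent.KFacts.Baby.Row.fix).allInner)

end Cfsg.Agent.OddHalf.Quat.NoThreeSpor
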