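import Cfsg.Agent.OddHalf.Quat.NoThreeTools
import Cfsg.Agent.ConwayFacts.AutCo1

/-!
# Node Q: `NoThree` for `Co₁`
-/

set_option autoImplicit false

namespace Cfsg.Agent.OddHalf.Quat.NoThreeSpor

theorem co1 {K : Type*} [Group K] (h : Spor.IsoCo1 K) : NoThree K := by
  obtain ⟨e⟩ := h
  refine NoThree.congr e (NoThree.of_inner' fun α => ?_)
  obtain ⟨s, hs⟩ := Cfsg.Agent.ConwayFacts.AutCo1.inner α
  exact ⟨s, MulEquiv.ext fun g => by rw [hs, MulAut.conj_apply]⟩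

end Cfsg.Agent.OddHalf.Quat.NoThreeSpor
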