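import Cfsg.Agent.OddHalf.Quat.NoThreeTools
import Cfsg.Agent.KFacts.CoTwo.QuotInst
import Cfsg.Agent.Schreier.CoTwoStab

/-!
# Node Q: `NoThree` for `Co₂`
-/

set_option autoImplicit false

namespace Cfsg.Agent.OddHalf.Quat.NoThreeSpor

theorem co2 {K : Type*} [Group K] (h : Spor.IsoCo2 K) : NoThree K := by
  obtain ⟨e⟩ := h
  have := Cfsg.Agent.Schreier.CoTwoStab.finite
  exact NoThree.congr e (NoThree.of_inner' fun α => Cfsg.Agent.KFacts.CoTwo.QuotInst.dataT.allInner α)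

end Cfsg.Agent.OddHalf.Quat.NoThreeSpor
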