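import Cfsg.Agent.OddHalf.Quat.NoThreeTools
import Cfsg.Agent.KFacts.Co3.Sheet

/-!
# Node Q: `NoThree` for `Co₃`
-/

set_option autoImplicit false

namespace Cfsg.Agent.OddHalf.Quat.NoThreeSpor

theorem co3 {K : Type*} [Group K] (h : Spor.IsoCo3 K) : NoThree K := by
  obtain ⟨e⟩ := h
  exact NoThree.of_inner' fun α =>
    Cfsg.Agent.KFacts.Co3.Sheet.inner_of (e.trans Cfsg.Agent.SporRec.Co3.Model.equivCo3.symm).symm α

end Cfsg.Agent.OddHalf.Quat.NoThreeSpor
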