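import Cfsg.Agent.OddHalf.Quat.NoThreeTools
import Cfsg.Agent.OddHalf.Table.OutFi22

/-!
# Node Q: `NoThree` for `Fi₂₂`
-/

set_option autoImplicit false

namespace Cfsg.Agent.OddHalf.Quat.NoThreeSpor

theorem fi22 {K : Type*} [Group K] (h : Spor.IsoFi22 K) : NoThree K := by
  obtain ⟨e⟩ := h
  refine NoThree.congr e (NoThree.of_pow (n := 2) (by norm_num) fun α => ?_)
  by_cases hα : ∃ x, α = MulAut.conj x
  · obtain ⟨x, hx⟩ := hα
    exact Subgroup.pow_mem _ (MonoidHom.mem_range.2 ⟨x, hx.symm⟩) 2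
  · push Not at hα
    obtain ⟨x, hx⟩ := Cfsg.Agent.OddHalf.Table.OutFi22.mul_outer α α hα hα
    exact ⟨x, by rw [pow_two, hx]⟩

end Cfsg.Agent.OddHalf.Quat.NoThreeSpor
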