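import Cfsg.Agent.OddHalf.Quat.NoThreeTools
import Cfsg.Agent.KFacts.FiTTh.Has

/-!
# Node Q: `NoThree` for the Fischer group `Fi₂₃`
-/

set_option autoImplicit false

namespace Cfsg.Agent.OddHalf.Quat.NoThreeSpor

theorem fi23 {K : Type*} [Group K] (h : Spor.IsoFi23 K) : NoThree K := by
  obtain ⟨e⟩ := h
  exact NoThree.congr e (NoThree.of_inner' Cfsg.Agent.KFacts.FiTTh.Has.inn)

end Cfsg.Agent.OddHalf.Quat.NoThreeSpor
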