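import Cfsg.Agent.OddHalf.Quat.NoThreeTools
import Cfsg.Agent.KFacts.FiTF.FrameF

/-!
# Node Q: `NoThree` for `Fi₂₄'`
-/

set_option autoImplicit false

namespace Cfsg.Agent.OddHalf.Quat.NoThreeSpor

theorem fi24' {K : Type*} [Group K] (h : Spor.IsoFi24' K) : NoThree K := by
  obtain ⟨e⟩ := h
  refine NoThree.congr e (NoThree.of_index fun h3 => ?_)
  exact absurd (h3.trans Cfsg.Agent.KFacts.FiTF.out) (by norm_num)

end Cfsg.Agent.OddHalf.Quat.NoThreeSpor
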