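import Cfsg.Agent.OddHalf.Quat.NoThreeTools
import Cfsg.Agent.HN.AutHS

/-!
# Node Q: `NoThree` for the Higman–Sims group
-/

set_option autoImplicit false

namespace Cfsg.Agent.OddHalf.Quat.NoThreeSpor

open Cfsg.Agent.SporadicA.PermTab Cfsg.Agent.HN.HS100 Cfsg.Agent.HN.AutBound Cfsg.Agent.HN.AutHS Equiv

theorem hs_Q : NoThree Q := by
  refine NoThree.of_pow (n := 2) (by norm_num) fun α => ?_
  obtain ⟨p, hp, h⟩ := exists_perm α
  have hpp : p * p ∈ Q := mem_Q_iff.2 ⟨mul_mem hp hp, by rw [map_mul, Int.units_mul_self]⟩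
  refine ⟨⟨p * p, hpp⟩, ?_⟩
  ext1 x
  apply Subtype.ext
  show p * p * (x : Perm (Fin 100)) * (p * p)⁻¹ = (((α ^ 2) x : Q) : Perm (Fin 100))
  rw [pow_two, MulAut.mul_apply, h, h]
  group

theorem hs {K : Type*} [Group K] (h : Spor.IsoHS K) : NoThree K := by
  obtain ⟨e⟩ := h
  obtain ⟨f⟩ := nonempty_Q.1
  exact NoThree.congr (e.trans f.symm) hs_Q

end Cfsg.Agent.OddHalf.Quat.NoThreeSpor
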