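import Cfsg.Agent.OddHalf.Quat.NoThreeCrit
import Cfsg.Agent.OddHalf.Quat.NoThreeAlt
import Cfsg.Agent.UGT.EndJ1.Data
import Cfsg.Agent.Lib.AltCarmichael

/-!
# Node Q: `NoThree` for `J₁`

The centraliser of an involution is `2 × A₅`.
-/

set_option autoImplicit false

namespace Cfsg.Agent.OddHalf.Quat.NoThreeSpor.J1

open Subgroup Cfsg.Agent.UGT.EndJ1.Abs Cfsg.Agent.Lib.AltCarmichael

/-- a group of order `120` with a central involution and a subgroup `A₅` -/
theorem of_card {C : Type*} [Group C] (hC : Nat.card C = 120) {t : C} (ht : t * t = 1) (ht1 : t ≠ 1)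
    (htc : ∀ x : C, x * t = t * x) {y : ℕ → C} (hy : Rel 3 y) (hne : y 0 ≠ 1) :
    NoThree C ∧ ∀ z : C, (∀ x : C, x * z = z * x) → z = 1 ∨ z = t := by
  have hfin : Finite C := Nat.finite_of_card_ne_zero (by rw [hC]; norm_num)
  obtain ⟨f⟩ := nonempty_gen_equiv (m := 3) le_rfl hy ⟨0, by norm_num, hne⟩
  have h60 : Nat.card (alternatingGroup (Fin 5)) = 60 := by
    have h := two_mul_nat_card_alternatingGroup (α := Fin 5)
    rw [Nat.card_perm, Nat.card_fin] at h
    have h5 : Nat.factorial 5 = 120 := rfl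
    omega
  let ψ : alternatingGroup (Fin 5) →* C ⧸ center C :=
    (QuotientGroup.mk' (center C)).comp ((gen 3 y).subtype.comp f.symm.toMonoidHom)
  have hψ : Function.Injective ψ := by
    rw [injective_iff_map_eq_one]
    intro a ha
    have h1 : ((f.symm a : gen 3 y) : C) ∈ center C := (QuotientGroup.eq_one_iff _).1 ha
    have h2 : a ∈ center (alternatingGroup (Fin 5)) := by
      rw [mem_center_iff]
      intro b
      have h3 := mem_center_iff.1 h1 ((f.symm b : gen 3 y) : C)
      have h4 : f.symm b * f.symm a = f.symm a * f.symm b := Subtype.ext h3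
      rw [← map_mul, ← map_mul] at h4
      exact f.symm.injective h4
    rw [NoThreeAlt.center_eq_bot le_rfl] at h2
    exact h2
  have hmul : Nat.card (C ⧸ center C) * Nat.card (center C) = 120 := by
    rw [← hC]
    exact ((center C).card_eq_card_quotient_mul_card_subgroup).symm
  have htZ : t ∈ center C := mem_center_iff.2 htc
  have h2 : 2 ≤ Nat.card (center C) := by
    have : Nontrivial (center C) := ⟨⟨⟨t, htZ⟩, 1, fun h => ht1 (congrArg Subtype.val h)⟩⟩
    exact Finite.one_lt_card
  have hle : 60 ≤ Nat.card (C ⧸ center C) := h60 ▸ Nat.card_le_card_of_injective _ hψ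
  have hZ2 : Nat.card (center C) = 2 := by nlinarith
  have hZ : ∀ z : C, z ∈ center C → z = 1 ∨ z = t := by
    intro z hz
    by_contra hcon
    push Not at hcon
    have h3 : Nat.card (zpowers t) = 2 := by
      rw [Nat.card_zpowers]
      exact orderOf_eq_prime (by rw [pow_two]; exact ht) ht1
    have h4 : zpowers t = center C := by
      apply Subgroup.eq_of_le_of_card_ge
      · rw [zpowers_le]; exact htZ
      · rw [h3, hZ2]
    rw [← h4, mem_zpowers_iff] at hz
    obtain ⟨k, rfl⟩ := hz
    have h5 : t ^ (2 : ℤ) = 1 := by rw [zpow_two, ht]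
    rcases Int.even_or_odd' k with ⟨j, rfl | rfl⟩
    · exact hcon.1 (by rw [zpow_mul, h5, one_zpow])
    · exact hcon.2 (by rw [zpow_add, zpow_mul, h5, one_zpow, one_mul, zpow_one])
  have hL : NoThree (C ⧸ center C) := by
    have hb : Function.Bijective ψ := by
      refine hψ.bijective_of_nat_card_le ?_
      rw [h60]
      rw [hZ2] at hmul
      omega
    exact NoThree.congr (MulEquiv.ofBijective ψ hb).symm NoThreeAlt.five
  have hmk : ∀ c : C, QuotientGroup.mk' (center C) c = 1 ↔ c ∈ center C := fun c => QuotientGroup.eq_one_iff c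
  have hchar : ∀ γ : MulAut C, ∀ c, c ∈ center C → γ c ∈ center C := by
    intro γ c hc
    rw [mem_center_iff] at hc ⊢
    intro d
    have h5 := congrArg γ (hc (γ⁻¹ d))
    rw [map_mul, map_mul, MulAut.apply_inv_self] at h5
    exact h5
  refine ⟨NoThreeCrit.of_quotient (QuotientGroup.mk' (center C)) (QuotientGroup.mk'_surjective _) ?_ hL ?_,
    fun z hz => hZ z (mem_center_iff.2 hz)⟩
  · intro γ c hc
    rw [hmk] at hc ⊢
    exact hchar γ c hc
  · intro δ hδ
    refine ⟨2, by norm_num, ?_⟩
    have h6 : δ ^ 2 = 1 := by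
      ext c
      have h7 : c⁻¹ * δ c ∈ center C := by
        rw [← hmk, map_mul, hδ c, map_inv, inv_mul_cancel]
      have h8 : ∀ z ∈ center C, δ z = z := by
        intro z hz
        rcases hZ z hz with rfl | rfl
        · exact map_one δ
        · rcases hZ _ (hchar δ _ hz) with h | h
          · exfalso
            apply ht1
            rw [← map_one δ] at h
            exact δ.injective h
          · exact h
      have h9 : c⁻¹ * δ c * (c⁻¹ * δ c) = 1 := by
        rcases hZ _ h7 with h | h
        · rw [h, one_mul]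
        · rw [h, ht]
      have h10 : δ c = c * (c⁻¹ * δ c) := by group
      rw [pow_two, MulAut.mul_apply, MulAut.one_apply]
      rw [h10, map_mul, h8 _ h7, h10]
      have h11 : c⁻¹ * (c * (c⁻¹ * δ c)) = c⁻¹ * δ c := by group
      rw [h11, mul_assoc, h9, mul_one]
    rw [h6]
    exact one_mem _

/-- the criterion for `J₁` -/
theorem of_dat {K : Type*} [Group K] (D : Dat K) {y : ℕ → K} (hy : Rel 3 y) (hc : ∀ i, y i * D.t = D.t * y i)
    (hne : y 0 ≠ 1) : NoThree K := by
  have hfin := D.fin
  let y' : ℕ → centralizer ({D.t} : Set K) := fun i => ⟨y i, mem_centralizer_singleton_iff.2 (hc i)⟩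
  have hy' : Rel 3 y' := ⟨fun i hi => Subtype.ext (hy.cube i hi), fun i hi j hj hij => Subtype.ext (hy.sq i hi j hj hij)⟩
  have htC : D.t ∈ centralizer ({D.t} : Set K) := mem_centralizer_singleton_iff.2 rfl
  obtain ⟨hN, hZ⟩ := of_card D.card_C (t := ⟨D.t, htC⟩) (Subtype.ext D.tt) (fun h => D.t1 (congrArg Subtype.val h))
    (fun x => Subtype.ext (mem_centralizer_singleton_iff.1 x.2)) hy' (fun h => hne (congrArg Subtype.val h))
  refine NoThreeCrit.of_centralizer D.t ?_ ?_ hN ?_
  · intro α
    obtain ⟨g, hg⟩ := D.conj_t (u := α D.t) (by rw [← map_mul, D.tt, map_one]) (fun h => D.t1 (by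
      rw [← map_one α] at h
      exact α.injective h))
    refine ⟨g⁻¹, ?_⟩
    rw [← hg]
    group
  · intro g hg
    have hinj : Function.Injective (fun x : centralizer ({D.t} : Set K) =>
        (⟨g * x * g⁻¹, mem_centralizer_singleton_iff.2 (hg x (mem_centralizer_singleton_iff.1 x.2))⟩ :
          centralizer ({D.t} : Set K))) := by
      intro a b hab
      apply Subtype.ext
      have h1 : g * (a : K) * g⁻¹ = g * b * g⁻¹ := congrArg Subtype.val hab
      simpa using h1
    have hsurj := Finite.surjective_of_injective hinj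
    have h1 := hZ ⟨g * D.t * g⁻¹, mem_centralizer_singleton_iff.2 (hg D.t rfl)⟩ (by
      intro x
      obtain ⟨w, rfl⟩ := hsurj x
      apply Subtype.ext
      show g * (w : K) * g⁻¹ * (g * D.t * g⁻¹) = g * D.t * g⁻¹ * (g * w * g⁻¹)
      have h2 := mem_centralizer_singleton_iff.1 w.2
      calc g * (w : K) * g⁻¹ * (g * D.t * g⁻¹) = g * (w * D.t) * g⁻¹ := by group
        _ = g * (D.t * w) * g⁻¹ := by rw [h2]
        _ = _ := by group)
    rcases h1 with h1 | h1
    · exfalso
      have h2 : g * D.t * g⁻¹ = 1 := congrArg Subtype.val h1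
      exact D.t1 (conj_eq_one_iff.1 h2)
    · have h2 : g * D.t * g⁻¹ = D.t := congrArg Subtype.val h1
      rw [mul_inv_eq_iff_eq_mul] at h2
      exact h2
  · rintro δ ⟨k, hk⟩ hδ
    rw [D.aut_t δ (NoThreeCrit.odd_of_three_power hk) hδ]
    exact one_mem _

open Cfsg.Agent.SporadicB.J1.Mat Cfsg.Agent.SporadicB.J1.Data Cfsg.Agent.SporadicB.KTab
open Cfsg.Agent.SporadicB.J1.Main Cfsg.Agent.UGT.EndJ1.Data
open Cfsg.Spor (J1)

def s0 : J1 := b
def s1 : J1 := c * b * c⁻¹
def s2 : J1 := e 2 * c * e 1
def c0 : Nat := cb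
def c1 : Nat := mulC (mulC cc cb) cci
def c2 : Nat := mulC (mulC (ce 2) cc) (ce 1)

theorem rep0 : Rep s0 c0 := rep_b
theorem rep1 : Rep s1 c1 := (rep_c.mul rep_b).mul rep_ci
theorem rep2 : Rep s2 c2 := ((rep_e 2).mul rep_c).mul (rep_e 1)

def y : ℕ → J1 := fun i => if i = 0 then s0 else if i = 1 then s1 else s2

set_option maxRecDepth 100000

theorem sq {g h : J1} {a b : Nat} (hg : Rep g a) (hh : Rep h b) (hab : powC (mulC a b) 2 cI = cI) :
    (g * h) ^ 2 = 1 := ((hg.mul hh).pow 2).eq Rep.one hab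

theorem rel : Rel 3 y := by
  constructor
  · intro i hi
    interval_cases i
    · exact (rep0.pow 3).eq Rep.one (by decide +kernel)
    · exact (rep1.pow 3).eq Rep.one (by decide +kernel)
    · exact (rep2.pow 3).eq Rep.one (by decide +kernel)
  · intro i hi j hj hij
    interval_cases i <;> interval_cases j
    · exact absurd rfl hij
    · exact sq rep0 rep1 (by decide +kernel)
    · exact sq rep0 rep2 (by decide +kernel)
    · exact sq rep1 rep0 (by decide +kernel)
    · exact absurd rfl hij
    · exact sq rep1 rep2 (by decide +kernel)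
    · exact sq rep2 rep0 (by decide +kernel)
    · exact sq rep2 rep1 (by decide +kernel)
    · exact absurd rfl hij

theorem comm : ∀ i, y i * e 1 = e 1 * y i := by
  intro i
  by_cases h0 : i = 0
  · subst h0
    exact b_comm
  by_cases h1 : i = 1
  · subst h1
    exact (rep1.mul (rep_e 1)).eq ((rep_e 1).mul rep1) (by decide +kernel)
  · have h2 : y i = s2 := by rw [y, if_neg h0, if_neg h1]
    rw [h2]
    exact (rep2.mul (rep_e 1)).eq ((rep_e 1).mul rep2) (by decide +kernel)

theorem y0_ne : y 0 ≠ 1 := rep_b.ne Rep.one (by decide +kernel)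

theorem noThree : NoThree J1 := by
  obtain ⟨D⟩ := exists_dat
  obtain ⟨g, hg⟩ := D.conj_t (u := e 1) (e_sq 1) ((rep_e 1).ne Rep.one (by decide +kernel))
  have ht : D.t = MulAut.conj g⁻¹ (e 1) := by
    rw [MulAut.conj_apply, ← hg]; group
  refine of_dat D (y := fun i => MulAut.conj g⁻¹ (y i)) ⟨?_, ?_⟩ ?_ ?_
  · intro i hi
    rw [← map_pow, rel.cube i hi, map_one]
  · intro i hi j hj hij
    rw [← map_mul, ← map_pow, rel.sq i hi j hj hij, map_one]
  · intro i
    rw [ht, ← map_mul, comm, map_mul]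
  · intro h
    apply y0_ne
    rw [← map_one (MulAut.conj g⁻¹)] at h
    exact (MulAut.conj g⁻¹).injective h

end Cfsg.Agent.OddHalf.Quat.NoThreeSpor.J1

namespace Cfsg.Agent.OddHalf.Quat.NoThreeSpor

theorem j1 {K : Type*} [Group K] (h : Spor.IsoJ1 K) : NoThree K := by
  obtain ⟨e⟩ := h
  exact NoThree.congr e J1.noThree

end Cfsg.Agent.OddHalf.Quat.NoThreeSpor
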