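import Cfsg.Agent.OddHalf.Quat.NoThreeTools
import Cfsg.Agent.OddHalf.D8.RowJ3

/-!
# Node Q: `NoThree` for `J₃`
-/

set_option autoImplicit false

namespace Cfsg.Agent.OddHalf.Quat.NoThreeSpor

theorem j3 {K : Type*} [Group K] (h : Spor.IsoJ3 K) : NoThree K := by
  obtain ⟨z, Q, v, ρ, M, hc, hi, hs⟩ := Cfsg.Agent.OddHalf.D8.RowJ3.sheet' K h
  exact NoThree.of_le_two hi

end Cfsg.Agent.OddHalf.Quat.NoThreeSpor
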