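import Cfsg.Agent.OddHalf.Quat.NoThreeTools
import Cfsg.Agent.KFacts.J4.SheetJ4

/-!
# Node Q: `NoThree` for `J₄`
-/

set_option autoImplicit false

namespace Cfsg.Agent.OddHalf.Quat.NoThreeSpor

theorem j4 {K : Type*} [Group K] (h : Spor.IsoJ4 K) : NoThree K := by
  obtain ⟨h1, h2, ⟨F⟩⟩ := Cfsg.Agent.KFacts.J4.Base.exists_full h
  exact NoThree.of_inner' (Cfsg.Agent.KFacts.J4.SheetJ4.inner F)

end Cfsg.Agent.OddHalf.Quat.NoThreeSpor
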