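import Cfsg.Agent.OddHalf.Quat.NoThreeTools
import Cfsg.Agent.TypeM.OutLyFin

/-!
# Node Q: `NoThree` for the Lyons group
-/

set_option autoImplicit false

namespace Cfsg.Agent.OddHalf.Quat.NoThreeSpor

theorem ly {K : Type*} [Group K] (h : Spor.IsoLy K) : NoThree K :=
  NoThree.of_inner (Cfsg.Agent.TypeM.OutLyFin.inner h)

end Cfsg.Agent.OddHalf.Quat.NoThreeSpor
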