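import Cfsg.Agent.OddHalf.Quat.NoThreeTools
import Cfsg.Agent.KFacts.MonsterM
import Cfsg.Agent.MonsterX.InstanceFinal
import Cfsg.Agent.MonsterP.Equiv

/-!
# Node Q: `NoThree` for the Monster
-/

set_option autoImplicit false

namespace Cfsg.Agent.OddHalf.Quat.NoThreeSpor

open Cfsg.Spor (Co1)
open Cfsg.Agent.MonsterX Cfsg.Agent.MonsterX.Model Cfsg.Agent.MonsterX.MainSimple Cfsg.Agent.MonsterX.MainBasic

theorem m_model {W : Type} [AddCommGroup W] [Module ℚ W] {M : MData W} (hG : MGroup M Co1) (hR : MRep M)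
    (hL : MLat M) (hO : MOrbit M) (hT : MTrans M) : NoThree M.G := by
  have hfin := G_finite hO
  have hco := Cfsg.Agent.KFacts.MonsterE.simple_Co1
  obtain ⟨π, D⟩ := Cfsg.Agent.KFacts.MonsterE.data_model hG hR hL hO hT
  exact NoThree.of_inner' D.inner

theorem m {K : Type*} [Group K] (h : Spor.IsoM K) : NoThree K := by
  obtain ⟨e⟩ := h
  obtain ⟨f⟩ := Cfsg.Agent.MonsterP.Equiv.equiv
  exact NoThree.congr (e.trans f) (m_model Instance.mGroup Instance.mRep Instance.mLat InstanceFinal.mOrbit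
    Instance.mTrans)

end Cfsg.Agent.OddHalf.Quat.NoThreeSpor
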