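import Cfsg.Agent.OddHalf.Quat.NoThreeTools
import Cfsg.Agent.UGT.End.MEleven

/-!
# Node Q: `NoThree` for `M₁₁`
-/

set_option autoImplicit false

namespace Cfsg.Agent.OddHalf.Quat.NoThreeSpor

theorem m11 {K : Type*} [Group K] (h : Spor.IsoM11 K) : NoThree K := by
  have : Finite K := by
    obtain ⟨e⟩ := h
    exact Finite.of_equiv _ e.symm.toEquiv
  exact NoThree.of_inner' (Cfsg.Agent.UGT.End.MEleven.inner h)

end Cfsg.Agent.OddHalf.Quat.NoThreeSpor
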