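import Cfsg.Agent.OddHalf.Quat.NoThreeCrit
import Cfsg.Agent.UGT.End.McLOuter
import Cfsg.Agent.TypeM.FactsMcL

/-!
# Node Q: `NoThree` for the McLaughlin group
-/

set_option autoImplicit false

namespace Cfsg.Agent.OddHalf.Quat.NoThreeSpor

theorem mcl {K : Type*} [Group K] (h : Spor.IsoMcL K) : NoThree K := by
  obtain ⟨hfin, hs, hcard, ⟨L⟩⟩ := Cfsg.Agent.TypeM.FactsMcL.facts h
  exact NoThreeCrit.of_odd fun α hα => Cfsg.Agent.UGT.End.McLOuter.inner_of_odd L hcard α hα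

end Cfsg.Agent.OddHalf.Quat.NoThreeSpor
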