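import Cfsg.Agent.OddHalf.Quat.NoThreeTools
import Cfsg.Agent.KFacts.ON.Aut

/-!
# Node Q: `NoThree` for the O'Nan group
-/

set_option autoImplicit false

namespace Cfsg.Agent.OddHalf.Quat.NoThreeSpor

theorem on {K : Type*} [Group K] (h : Spor.IsoON K) : NoThree K := by
  obtain ⟨e⟩ := h
  refine NoThree.congr e (NoThree.of_index fun h3 => ?_)
  have h1 := Cfsg.Agent.KFacts.ON.Aut.index_le
  have h2 := Cfsg.Agent.KFacts.ON.Aut.finite_aut
  have h0 : (MulAut.conj : Cfsg.Spor.ON →* MulAut Cfsg.Spor.ON).range.index ≠ 0 := Subgroup.index_ne_zero_of_finite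
  obtain ⟨c, hc⟩ := h3
  omega

end Cfsg.Agent.OddHalf.Quat.NoThreeSpor
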