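import Cfsg.Agent.OddHalf.Quat.NoThreeTools
import Cfsg.Agent.KFacts.He.Outer

/-!
# Node Q: `NoThree` for the Held group
-/

set_option autoImplicit false

namespace Cfsg.Agent.OddHalf.Quat.NoThreeSpor

theorem he {K : Type*} [Group K] (h : Spor.IsoHe K) : NoThree K :=
  NoThree.of_le_two (Cfsg.Agent.KFacts.He.Outer.index_le_two h)

end Cfsg.Agent.OddHalf.Quat.NoThreeSpor
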