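import Cfsg.Agent.OddHalf.Quat.NoThreeSpor.M11
import Cfsg.Agent.OddHalf.Quat.NoThreeSpor.M12
import Cfsg.Agent.OddHalf.Quat.NoThreeSpor.M22
import Cfsg.Agent.OddHalf.Quat.NoThreeSpor.M23
import Cfsg.Agent.OddHalf.Quat.NoThreeSpor.M24
import Cfsg.Agent.OddHalf.Quat.NoThreeSpor.J1
import Cfsg.Agent.OddHalf.Quat.NoThreeSpor.J2
import Cfsg.Agent.OddHalf.Quat.NoThreeSpor.J3
import Cfsg.Agent.OddHalf.Quat.NoThreeSpor.J4
import Cfsg.Agent.OddHalf.Quat.NoThreeSpor.Co1
import Cfsg.Agent.OddHalf.Quat.NoThreeSpor.Co2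
import Cfsg.Agent.OddHalf.Quat.NoThreeSpor.Co3
import Cfsg.Agent.OddHalf.Quat.NoThreeSpor.McL
import Cfsg.Agent.OddHalf.Quat.NoThreeSpor.HS
import Cfsg.Agent.OddHalf.Quat.NoThreeSpor.Suz
import Cfsg.Agent.OddHalf.Quat.NoThreeSpor.He
import Cfsg.Agent.OddHalf.Quat.NoThreeSpor.Ru
import Cfsg.Agent.OddHalf.Quat.NoThreeSpor.ON
import Cfsg.Agent.OddHalf.Quat.NoThreeSpor.Ly
import Cfsg.Agent.OddHalf.Quat.NoThreeSpor.Fi22
import Cfsg.Agent.OddHalf.Quat.NoThreeSpor.Fi23
import Cfsg.Agent.OddHalf.Quat.NoThreeSpor.Fi24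
import Cfsg.Agent.OddHalf.Quat.NoThreeSpor.HN
import Cfsg.Agent.OddHalf.Quat.NoThreeSpor.Th
import Cfsg.Agent.OddHalf.Quat.NoThreeSpor.B
import Cfsg.Agent.OddHalf.Quat.NoThreeSpor.M
import Cfsg.Prelude.Def_Classification2

/-!
# Node Q: `NoThree` for the sporadic groups
-/

set_option autoImplicit false

namespace Cfsg.Agent.OddHalf.Quat.NoThreeSpor

/-- **the outer automorphism group of a sporadic group has no element of order 3** -/
theorem sporadic {K : Type*} [Group K] (h : IsSporadicGroup K) : NoThree K := by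
  rcases h with h | h | h | h | h | h | h | h | h | h | h | h | h | h | h | h | h | h | h | h | h | h | h | h | h | h
  · exact m11 h
  · exact m12 h
  · exact m22 h
  · exact m23 h
  · exact m24 h
  · exact j1 h
  · exact j2 h
  · exact j3 h
  · exact j4 h
  · exact co1 h
  · exact co2 h
  · exact co3 h
  · exact mcl h
  · exact hs h
  · exact suz h
  · exact he h
  · exact ru h
  · exact on h
  · exact ly h
  · exact fi22 h
  · exact fi23 h
  · exact fi24' h
  · exact hn h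
  · exact th h
  · exact b h
  · exact m h

end Cfsg.Agent.OddHalf.Quat.NoThreeSpor
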